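import Cfsg.Agent.H550.RX.CentNorm
import Cfsg.Agent.H554.BS.Tab
import Cfsg.Agent.H129.TorusUntw

/-!
# Row R3, exceptional groups: the elements `h_s(i)`, `w_s(1)`, `s` in a frame, lie in the finite group (helper408)

* `exists_B` : `B ∈ SL₂(k)` with `B^(q) = B * wS 1`;
* `mem_of_fix` : if `z⁻¹ * φ z = wL L`, `L = []` or `L = FF` a frame, then `z * ph_s(x) * z⁻¹` lies in the image of the finite
  group if `x ∈ SL₂(k)` is fixed by the (twisted) Frobenius automorphism;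
* `wS_mem`, `hS_mem` : `x = wS 1`, `x = hS i`.
-/

set_option autoImplicit false
set_option linter.unusedSectionVars false

namespace Cfsg.Agent.H408.RX

open CoxeterSystem Cfsg Cfsg.Lie Cfsg.Lie.ChevalleyDatum
open Cfsg.Agent.ChevalleyStructure Cfsg.Agent.ChevalleyStructure.Elts Cfsg.Agent.ChevalleyStructure.CoxeterGeom
  Cfsg.Agent.ChevalleyStructure.CoxeterGeomTypes Cfsg.Agent.ChevalleyStructure.NPerm
open Cfsg.Agent.Tits.Roots Cfsg.Agent.Tits.Core Cfsg.Agent.Nodes Cfsg.Agent.Nodes.Reps Cfsg.Agent.Nodes.BNOf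
  Cfsg.Agent.Nodes.RGDChev Cfsg.Agent.Nodes.Bruhat Cfsg.Agent.Nodes.NormalForm
open Cfsg.Agent.KFacts.RgdField Cfsg.Agent.KFacts.RgdChevCoord
open Cfsg.Agent.BpExc Cfsg.Agent.BpExc.TorCent Cfsg.Agent.BpExc.TorChev Cfsg.Agent.BpExc.Tow
  Cfsg.Agent.BpExc.TowChev Cfsg.Agent.BpExc.Fr Cfsg.Agent.BpExc.Pair Cfsg.Agent.BpExc.LangFr Cfsg.Agent.GpExc.Field
  Cfsg.Agent.BpExc.TorAll
open Cfsg.Agent.H469.Exc Cfsg.Agent.H469.Exc.SigFr
open Cfsg.Agent.Nodes.RGDFoldSL
open Cfsg.Agent.ChevalleyStructure.SL2Hom (up lo mem_closure_SL2)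
open Cfsg.Agent.H167.EX Cfsg.Agent.H795.LangT Cfsg.Agent.H129.TorusChar Cfsg.Agent.H129.TorusUntw Cfsg.Agent.H554.BS
  Cfsg.Agent.H550.RX

universe u v

variable {D : ChevalleyDatum} {l : ℕ} {M : CoxeterMatrix (Fin l)} (hp : IsType D l M) {k : Type u} [Field k]

/-! ### matrices -/

section Mat

variable (p e : ℕ) [Fact p.Prime] [CharP k p]

/-- the Frobenius map on `SL₂` -/
noncomputable def fS (k : Type u) [Field k] (p e : ℕ) [Fact p.Prime] [CharP k p] : SL k →* SL k :=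
  Matrix.SpecialLinearGroup.map (n := Fin 2) (iterateFrobenius k p e)

theorem fS_apply (x : SL k) (i j : Fin 2) : (fS k p e x).1 i j = x.1 i j ^ p ^ e := by
  show (iterateFrobenius k p e) (x.1 i j) = _
  rw [iterateFrobenius_def]

theorem fS_wS : fS k p e (wS 1) = wS 1 := by
  apply Subtype.ext
  ext i j
  rw [fS_apply]
  obtain ⟨w1, w2, w3, w4⟩ := wS_entries (k := k) (t := 1) one_ne_zero
  have hq : p ^ e ≠ 0 := pow_ne_zero e (Fact.out : p.Prime).ne_zero
  fin_cases i <;> fin_cases j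
  · show (wS 1 : SL k).1 0 0 ^ p ^ e = (wS 1 : SL k).1 0 0
    rw [w1, zero_pow hq]
  · show (wS 1 : SL k).1 0 1 ^ p ^ e = (wS 1 : SL k).1 0 1
    rw [w2, one_pow]
  · show (wS 1 : SL k).1 1 0 ^ p ^ e = (wS 1 : SL k).1 1 0
    rw [w3, inv_one]
    have h := map_neg (iterateFrobenius k p e) (1 : k)
    rw [iterateFrobenius_def, map_one] at h
    exact h
  · show (wS 1 : SL k).1 1 1 ^ p ^ e = (wS 1 : SL k).1 1 1
    rw [w4, zero_pow hq]

theorem fS_hS {c : k} (hc : c ≠ 0) : fS k p e (hS c) = hS (c ^ p ^ e) := by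
  apply Subtype.ext
  ext i j
  rw [fS_apply]
  obtain ⟨w1, w2, w3, w4⟩ := hS_entries hc
  obtain ⟨v1, v2, v3, v4⟩ := hS_entries (pow_ne_zero (p ^ e) hc)
  have hq : p ^ e ≠ 0 := pow_ne_zero e (Fact.out : p.Prime).ne_zero
  fin_cases i <;> fin_cases j
  · show (hS c : SL k).1 0 0 ^ p ^ e = (hS (c ^ p ^ e) : SL k).1 0 0
    rw [w1, v1]
  · show (hS c : SL k).1 0 1 ^ p ^ e = (hS (c ^ p ^ e) : SL k).1 0 1
    rw [w2, v2, zero_pow hq]
  · show (hS c : SL k).1 1 0 ^ p ^ e = (hS (c ^ p ^ e) : SL k).1 1 0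
    rw [w3, v3, zero_pow hq]
  · show (hS c : SL k).1 1 1 ^ p ^ e = (hS (c ^ p ^ e) : SL k).1 1 1
    rw [w4, v4, inv_pow]

/-- a matrix with `B^(q) = B * wS 1` -/
theorem exists_B [IsAlgClosed k] (h2 : (2 : k) ≠ 0) (he : 0 < e) : ∃ B : SL k, fS k p e B = B * wS 1 := by
  obtain ⟨q, hq⟩ : ∃ q, q = p ^ e := ⟨_, rfl⟩
  have hq1 : 1 < q := hq ▸ Nat.one_lt_pow he.ne' (Fact.out : p.Prime).one_lt
  have hqq : 0 < q * q - 1 := by
    have : 1 < q * q := Nat.one_lt_mul_iff.2 ⟨by omega, by omega, Or.inl hq1⟩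
    omega
  obtain ⟨a, ha⟩ := IsAlgClosed.exists_pow_nat_eq (-1 : k) hqq
  have ha0 : a ≠ 0 := by
    rintro rfl
    rw [zero_pow (by omega)] at ha
    exact one_ne_zero (neg_eq_zero.1 ha.symm)
  have haq : (a ^ q) ^ q = -a := by
    rw [← pow_mul]
    have h3 : q * q = (q * q - 1) + 1 := by omega
    rw [h3, pow_succ, ha]
    ring
  have haq0 : a ^ q ≠ 0 := pow_ne_zero q ha0
  have h2q : (2 : k) ^ q = 2 := by
    have h := map_ofNat (iterateFrobenius k p e) 2
    rw [iterateFrobenius_def, ← hq] at h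
    exact h
  have hneg : ∀ x : k, (-x) ^ q = -x ^ q := by
    intro x
    have h := map_neg (iterateFrobenius k p e) x
    rw [iterateFrobenius_def, iterateFrobenius_def, ← hq] at h
    exact h
  obtain ⟨B, hB⟩ : ∃ B : SL k, (B : Matrix (Fin 2) (Fin 2) k) = !![a, -a ^ q; (a ^ q)⁻¹ / 2, a⁻¹ / 2] := by
    refine ⟨⟨!![a, -a ^ q; (a ^ q)⁻¹ / 2, a⁻¹ / 2], ?_⟩, rfl⟩
    rw [Matrix.det_fin_two_of]
    field_simp
    ring
  refine ⟨B, ?_⟩
  obtain ⟨w1, w2, w3, w4⟩ := wS_entries (k := k) (t := 1) one_ne_zero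
  have b1 : B.1 0 0 = a := by rw [hB]; rfl
  have b2 : B.1 0 1 = -a ^ q := by rw [hB]; rfl
  have b3 : B.1 1 0 = (a ^ q)⁻¹ / 2 := by rw [hB]; rfl
  have b4 : B.1 1 1 = a⁻¹ / 2 := by rw [hB]; rfl
  refine sl_ext ?_ ?_ ?_ ?_
  · rw [fS_apply, mul00, w1, w3, b1, b2, ← hq, inv_one]
    ring
  · rw [fS_apply, mul01, w2, w4, b1, b2, ← hq, hneg, haq]
    ring
  · rw [fS_apply, mul10, w1, w3, b3, b4, ← hq, div_pow, inv_pow, haq, h2q, inv_one, inv_neg]
    ring
  · rw [fS_apply, mul11, w2, w4, b3, b4, ← hq, div_pow, inv_pow, h2q]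
    ring

end Mat

/-! ### fixed elements of `ph` -/

section Fix

variable {p e : ℕ} [Fact p.Prime] [CharP k p] {F : Type u} [Field F] [Fintype F] (f0 : F →+* k)

/-- a matrix fixed by the Frobenius comes from the finite field -/
theorem exists_of_fS (hq : Fintype.card F = p ^ e) {x : SL k} (hx : fS k p e x = x) :
    ∃ y : SL F, Matrix.SpecialLinearGroup.map f0 y = x := by
  have h1 : ∀ i j, ∃ y : F, f0 y = x.1 i j := by
    intro i j
    refine (frob_fix_iff f0 hq _).1 ?_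
    rw [iterateFrobenius_def, ← fS_apply, hx]
  choose Y hY using h1
  have hB : (Matrix.of Y).map f0 = x.1 := by
    ext i j
    exact hY i j
  refine ⟨⟨Matrix.of Y, ?_⟩, Subtype.ext hB⟩
  have h3 : f0 (Matrix.of Y).det = x.1.det := by
    rw [← hB, RingHom.map_det]
    rfl
  rw [x.2] at h3
  exact f0.injective (by rw [h3, map_one])

theorem ph_mem_of_fS (hq : Fintype.card F = p ^ e) {s : ℕ} (hs : s < D.nroots) {x : SL k} (hx : fS k p e x = x) :
    ph hp k hs x ∈ (emb hp.inList f0).range := by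
  obtain ⟨y, rfl⟩ := exists_of_fS f0 hq hx
  exact ⟨ph hp F hs y, emb_ph hp hs f0 y⟩

theorem phi_ph [IsAlgClosed k] {s : ℕ} (hs : s < D.nroots) (x : SL k) :
    phi D k p e (ph hp k hs x) = ph hp k hs (fS k p e x) := by
  rw [phi_eq hp, emb_ph]
  rfl

end Fix

/-! ### products over a frame -/

/-- `ph_s(B)` -/
noncomputable def pE (B : SL k) (s : ℕ) : ↥(D.group k) :=
  if hs : s < D.nroots then ph hp k hs B else 1

theorem pE_eq (B : SL k) {s : ℕ} (hs : s < D.nroots) : pE hp B s = ph hp k hs B := dif_pos hs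

theorem pE_wS (s : ℕ) : pE hp (wS (1 : k)) s = wE hp k s := rfl

/-- the product of the elements `ph_s(B)` -/
noncomputable def pL (B : SL k) (L : List ℕ) : ↥(D.group k) := (L.map (pE hp B)).prod

theorem pL_nil (B : SL k) : pL hp B [] = 1 := rfl

theorem pL_cons (B : SL k) (s : ℕ) (L : List ℕ) : pL hp B (s :: L) = pE hp B s * pL hp B L := by
  unfold pL; rw [List.map_cons, List.prod_cons]

theorem wL_nil : wL hp k [] = 1 := rfl

theorem wL_cons (s : ℕ) (L : List ℕ) : wL hp k (s :: L) = wE hp k s * wL hp k L := by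
  unfold wL; rw [List.map_cons, List.prod_cons]

/-- the root `SL₂` of different elements of the list commute -/
def Ort (hp : IsType D l M) (k : Type u) [Field k] (L : List ℕ) : Prop :=
  ∀ a ∈ L, ∀ b ∈ L, a ≠ b → ∀ A B : SL k, pE hp A a * pE hp B b = pE hp B b * pE hp A a

theorem Ort.tail {s : ℕ} {L : List ℕ} (h : Ort hp k (s :: L)) : Ort hp k L :=
  fun a ha b hb => h a (List.mem_cons_of_mem _ ha) b (List.mem_cons_of_mem _ hb)

theorem ort_of_tabO {L : List ℕ} (hL : ∀ s ∈ L, s < D.nroots) (h : H808.RV.tabO D L = true) : Ort hp k L := by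
  intro a ha b hb hab A B
  obtain ⟨h1, h2⟩ := H808.RV.tabO_spec h ha hb hab
  rw [pE_eq hp A (hL a ha), pE_eq hp B (hL b hb)]
  exact Subtype.ext (H808.RV.psi_comm hp.inList (hL a ha) (hL b hb) h1 h2 A B)

theorem comm_pL {L : List ℕ} {s : ℕ} (hs : s ∉ L) (h : Ort hp k (s :: L)) (A B : SL k) :
    pE hp A s * pL hp B L = pL hp B L * pE hp A s := by
  induction L with
  | nil => rw [pL_nil, mul_one, one_mul]
  | cons t L ih =>
    have h1 : s ≠ t := fun h => hs (h ▸ List.mem_cons_self)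
    have h2 := h s List.mem_cons_self t (List.mem_cons_of_mem _ List.mem_cons_self) h1 A B
    have h3 := ih (fun h => hs (List.mem_cons_of_mem _ h)) (fun a ha b hb => h a (by
      rcases List.mem_cons.1 ha with ha | ha
      · rw [ha]; exact List.mem_cons_self
      · exact List.mem_cons_of_mem _ (List.mem_cons_of_mem _ ha)) b (by
      rcases List.mem_cons.1 hb with hb | hb
      · rw [hb]; exact List.mem_cons_self
      · exact List.mem_cons_of_mem _ (List.mem_cons_of_mem _ hb)))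
    rw [pL_cons, ← mul_assoc, h2, mul_assoc, h3, mul_assoc]

section Frob

variable {p e : ℕ} [Fact p.Prime] [CharP k p]

theorem phi_pL [IsAlgClosed k] {B : SL k} (hB : fS k p e B = B * wS 1) {L : List ℕ} (hL : ∀ s ∈ L, s < D.nroots)
    (hnd : L.Nodup) (h : Ort hp k L) : phi D k p e (pL hp B L) = pL hp B L * wL hp k L := by
  induction L with
  | nil => rw [pL_nil, wL_nil, map_one, one_mul]
  | cons s L ih =>
    have hs := hL s List.mem_cons_self
    have h1 := (List.nodup_cons.1 hnd).1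
    have h2 := comm_pL hp h1 h (wS 1) B
    rw [pE_wS] at h2
    rw [pL_cons, wL_cons, map_mul, ih (fun t ht => hL t (List.mem_cons_of_mem _ ht)) (List.nodup_cons.1 hnd).2 (h.tail hp),
      pE_eq hp B hs, phi_ph hp hs, hB, map_mul, ← wE_eq hp hs]
    calc ph hp k hs B * wE hp k s * (pL hp B L * wL hp k L)
        = ph hp k hs B * (wE hp k s * pL hp B L) * wL hp k L := by group
      _ = _ := by rw [h2]; group

theorem conj_pL {B : SL k} {L : List ℕ} (hnd : L.Nodup) (h : Ort hp k L) {s : ℕ} (hs : s ∈ L) (x : SL k) :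
    pL hp B L * pE hp x s * (pL hp B L)⁻¹ = pE hp (B * x * B⁻¹) s := by
  induction L with
  | nil => exact absurd hs List.not_mem_nil
  | cons t L ih =>
    have h1 := (List.nodup_cons.1 hnd).1
    rw [pL_cons]
    by_cases hst : s = t
    · subst hst
      have h2 := comm_pL hp h1 h x B
      have hm : ∀ A A' : SL k, pE hp (A * A') s = pE hp A s * pE hp A' s := by
        intro A A'
        unfold pE
        split_ifs with h0
        · rw [map_mul]
        · rw [one_mul]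
      have hi : pE hp B⁻¹ s = (pE hp B s)⁻¹ := by
        unfold pE
        split_ifs with h0
        · rw [map_inv]
        · rw [inv_one]
      rw [hm, hm, hi]
      calc pE hp B s * pL hp B L * pE hp x s * (pE hp B s * pL hp B L)⁻¹
          = pE hp B s * (pL hp B L * pE hp x s) * (pL hp B L)⁻¹ * (pE hp B s)⁻¹ := by group
        _ = _ := by rw [← h2]; group
    · have hsL : s ∈ L := (List.mem_cons.1 hs).resolve_left hst
      have h2 := ih (List.nodup_cons.1 hnd).2 (h.tail hp) hsL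
      have h3 := h t List.mem_cons_self s hs (Ne.symm hst) B (B * x * B⁻¹)
      calc pE hp B t * pL hp B L * pE hp x s * (pE hp B t * pL hp B L)⁻¹
          = pE hp B t * (pL hp B L * pE hp x s * (pL hp B L)⁻¹) * (pE hp B t)⁻¹ := by group
        _ = _ := by rw [h2, h3]; group

variable {F : Type u} [Field F] [Fintype F] (f0 : F →+* k)

/-- **The elements of the frame.** -/
theorem mem_of_fix [IsAlgClosed k] (h2 : (2 : k) ≠ 0) (he : 0 < e) (hq : Fintype.card F = p ^ e) {FF : List ℕ}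
    (hFF : ∀ s ∈ FF, s < D.nroots) (hnd : FF.Nodup) (hort : Ort hp k FF) {L : List ℕ} (hL : L = [] ∨ L = FF)
    {z : ↥(D.group k)} (hz : z⁻¹ * phi D k p e z = wL hp k L) {s : ℕ} (hs : s ∈ FF) {x : SL k}
    (hx0 : L = [] → fS k p e x = x) (hx : L = FF → wS 1 * fS k p e x * (wS 1)⁻¹ = x) :
    z * ph hp k (hFF s hs) x * z⁻¹ ∈ (emb hp.inList f0).range := by
  -- it is enough to find the other solution
  suffices h : ∃ z0 : ↥(D.group k), phi D k p e z0 = z0 * wL hp k L ∧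
      z0 * ph hp k (hFF s hs) x * z0⁻¹ ∈ (emb hp.inList f0).range by
    obtain ⟨z0, h1, h3⟩ := h
    have h4 : phi D k p e z = z * wL hp k L := by rw [← hz]; group
    have h5 : phi D k p e (z * z0⁻¹) = z * z0⁻¹ := by
      rw [map_mul, map_inv, h1, h4]; group
    have h6 := Emb.conj_mem_range (F := F) (hD := hp.inList) (f := f0) (φ := iterateFrobenius k p e)
      (fun t => by rw [iterateFrobenius_def, hq]) (σ := phi D k p e) coe_phi h5 h3
    have e1 : z * z0⁻¹ * (z0 * ph hp k (hFF s hs) x * z0⁻¹) * (z * z0⁻¹)⁻¹ = z * ph hp k (hFF s hs) x * z⁻¹ := by group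
    rwa [e1] at h6
  by_cases hL0 : L = []
  · subst hL0
    refine ⟨1, by rw [map_one, one_mul, wL_nil], ?_⟩
    rw [one_mul, inv_one, mul_one]
    exact ph_mem_of_fS hp f0 hq (hFF s hs) (hx0 rfl)
  · have hLF : L = FF := hL.resolve_left hL0
    subst hLF
    obtain ⟨B, hB⟩ := exists_B (k := k) p e h2 he
    refine ⟨pL hp B L, phi_pL hp hB hFF hnd hort, ?_⟩
    have h3 := conj_pL hp (B := B) hnd hort hs x
    rw [pE_eq hp x (hFF s hs), pE_eq hp _ (hFF s hs)] at h3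
    rw [h3]
    refine ph_mem_of_fS hp f0 hq (hFF s hs) ?_
    rw [map_mul, map_mul, map_inv, hB]
    have h4 := hx rfl
    calc B * wS 1 * fS k p e x * (B * wS 1)⁻¹ = B * (wS 1 * fS k p e x * (wS 1)⁻¹) * B⁻¹ := by group
      _ = _ := by rw [h4]

/-- **`w_s(1)`, `s` in the frame.** -/
theorem wS_mem [IsAlgClosed k] (h2 : (2 : k) ≠ 0) (he : 0 < e) (hq : Fintype.card F = p ^ e) {FF : List ℕ}
    (hFF : ∀ s ∈ FF, s < D.nroots) (hnd : FF.Nodup) (hort : Ort hp k FF) {L : List ℕ} (hL : L = [] ∨ L = FF)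
    {z : ↥(D.group k)} (hz : z⁻¹ * phi D k p e z = wL hp k L) {s : ℕ} (hs : s ∈ FF) :
    z * ph hp k (hFF s hs) (wS 1) * z⁻¹ ∈ (emb hp.inList f0).range :=
  mem_of_fix hp f0 h2 he hq hFF hnd hort hL hz hs (fun _ => fS_wS p e) (fun _ => by rw [fS_wS]; group)

/-- **`h_s(i)`, `s` in the frame.** -/
theorem hS_mem [IsAlgClosed k] (h2 : (2 : k) ≠ 0) (he : 0 < e) (hq : Fintype.card F = p ^ e) {FF : List ℕ}
    (hFF : ∀ s ∈ FF, s < D.nroots) (hnd : FF.Nodup) (hort : Ort hp k FF) {ε : ℤ} (hε : ε = 1 ∨ ε = -1)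
    (h4 : (4 : ℤ) ∣ (p : ℤ) ^ e - ε) {L : List ℕ} (hL1 : ε = 1 → L = []) (hL2 : ε = -1 → L = FF)
    {z : ↥(D.group k)} (hz : z⁻¹ * phi D k p e z = wL hp k L) {i : k} (hi : i * i = -1) {s : ℕ} (hs : s ∈ FF) :
    z * ph hp k (hFF s hs) (hS i) * z⁻¹ ∈ (emb hp.inList f0).range := by
  have hi0 : i ≠ 0 := by rintro rfl; rw [mul_zero] at hi; exact one_ne_zero (neg_eq_zero.1 hi.symm)
  have hi4 : i ^ (4 : ℤ) = 1 := by
    have : i ^ (4 : ℤ) = (i * i) * (i * i) := by
      rw [show (4 : ℤ) = ((4 : ℕ) : ℤ) by norm_num, zpow_natCast]; ring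
    rw [this, hi]; ring
  have hiq : i ^ p ^ e = i ^ ε := by
    obtain ⟨m, hm⟩ := h4
    have h7 : ((p ^ e : ℕ) : ℤ) = ε + 4 * m := by push_cast; linarith
    rw [← zpow_natCast, h7, zpow_add₀ hi0, zpow_mul, hi4, one_zpow, mul_one]
  have hne : FF ≠ [] := by rintro rfl; exact List.not_mem_nil hs
  rcases hε with rfl | rfl
  · refine mem_of_fix hp f0 h2 he hq hFF hnd hort (Or.inl (hL1 rfl)) hz hs (fun _ => ?_) (fun h => ?_)
    · rw [fS_hS p e hi0, hiq, zpow_one]
    · exact absurd ((hL1 rfl).symm.trans h).symm hne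
  · refine mem_of_fix hp f0 h2 he hq hFF hnd hort (Or.inr (hL2 rfl)) hz hs (fun h => ?_) (fun _ => ?_)
    · exact absurd ((hL2 rfl).symm.trans h) hne
    · rw [fS_hS p e hi0, hiq, zpow_neg, zpow_one, wS_hS (inv_ne_zero hi0), inv_inv, mul_inv_cancel_right]

end Frob

/-! ### the frames -/

theorem ort_F4 (hp : IsType chevF4 l M) : Ort hp k H554.BS.FF4 := ort_of_tabO hp H554.BS.ltFF4 H808.RV.tabO_F4
theorem ort_E6 (hp : IsType chevE6 l M) : Ort hp k H554.BS.FE6 := ort_of_tabO hp H808.RV.lt_E6 H808.RV.tabO_E6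
theorem ort_E7 (hp : IsType chevE7 l M) : Ort hp k H554.BS.FE7 := ort_of_tabO hp H554.BS.ltFE7 H808.RV.tabO_E7
theorem ort_E8 (hp : IsType chevE8 l M) : Ort hp k H554.BS.FE8 := ort_of_tabO hp H554.BS.ltFE8 H808.RV.tabO_E8
theorem nodup_F4 : H554.BS.FF4.Nodup := by decide
theorem nodup_E6 : H554.BS.FE6.Nodup := by decide
theorem nodup_E7 : H554.BS.FE7.Nodup := by decide
theorem nodup_E8 : H554.BS.FE8.Nodup := by decide

end Cfsg.Agent.H408.RX
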